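import Groth.Agent.TateLoc.K91.FunCycCd
import Groth.Agent.Etbc.H212.FinField
import Groth.Agent.Etbc.H212.CharPBound
import Groth.Agent.HLoc2.K775.Tors

/-!
# Global function fields have strict cohomological dimension at most two

* `subsingleton_H3_int` : `H³(K, ℤ) = 0` under the hypotheses of `Scd.subsingleton_H3`;
* `cohDimLE_two` : `cd(K) ≤ 2` for a global function field;
* `subsingleton_H3` : `H³(N, ℤ) = 0` for a finite extension `N` of a global function field.
-/

set_option autoImplicit false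
universe u

open CategoryTheory CategoryTheory.Limits AlgebraicGeometry Opposite
open Groth.Agent.CurvesA Groth.Agent.CurvesA.EtFieldObj Groth.Agent.CurvesA.EtFieldDesc
open Groth.Agent.CurvesA.EtFieldTr Groth.Agent.CurvesA.EtFieldFin

namespace K91.FunScd

open Groth.Agent Groth.Agent.Dix.K109 Groth.Agent.Dix.K109.Scd

section int

/-- The constant sheaf `ℤ` is torsion free. -/
theorem int_torsionFree (K : Type u) [Field K] (n : ℕ) (U : (Spec (CommRingCat.of K)).Etale)
    (s : EtCoh.sect (EtCoh.const (Spec (CommRingCat.of K)) ℤ) U)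
    (hn : n ≠ 0) (h : n • s = 0) : s = 0 := by
  obtain ⟨w, hS⟩ := Groth.Agent.Lefpen.H717.ConstRed.const_shortExact (Spec (CommRingCat.of K)) n
    (Nat.pos_of_ne_zero hn)
  have hm : Mono (n • 𝟙 (EtCoh.const (Spec (CommRingCat.of K)) ℤ)) := hS.mono_f
  apply app_injective (n • 𝟙 (EtCoh.const (Spec (CommRingCat.of K)) ℤ)) U
  rw [map_zero, ConstEl.hom_app_nsmul]
  exact h

theorem fin_int (K : Type u) [Field K] : Fin' (EtCoh.const (Spec (CommRingCat.of K)) ℤ) :=
  (fin_ZL K).of_epi (SiteZU.constIso.{u + 1} (Spec (CommRingCat.of K)).smallEtaleTopology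
    (EtFieldH.isTerminal_etObj K)).hom

/-- `H³(K, ℤ) = 0`. -/
theorem subsingleton_H3_int (K : Type u) [Field K]
    (hK : ∀ p : ℕ, p.Prime → _root_.Dix.CohDimLEAt (Spec (CommRingCat.of K)) p 1 ∨
      ((p : K) ≠ 0 ∧ _root_.Dix.CohDimLEAt (Spec (CommRingCat.of K)) p 2 ∧ CycCd K p)) :
    Subsingleton (EtCoh.H (Spec (CommRingCat.of K)) (EtCoh.const _ ℤ) 3) :=
  Scd.subsingleton_H3 K (fin_int K) (int_torsionFree K) hK

end int

/-- `cd_p ≤ 1` in characteristic `p`. -/
theorem cohDimLEAt_char (K : Type u) [Field K] (p : ℕ) [Fact p.Prime] [CharP K p] :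
    _root_.Dix.CohDimLEAt (Spec (CommRingCat.of K)) p 1 := by
  let φ : ULift.{u} (ZMod p) →+* K := (ZMod.castHom (dvd_refl p) K).comp ULift.ringEquiv.toRingHom
  exact Etbc.H212.CharPBound.of_isAffine p _ (Spec.map (CommRingCat.ofHom φ))

section fn

variable (Fq : Type u) [Field Fq] [Finite Fq] (K : Type u) [Field K] [Algebra (RatFunc Fq) K] [FunctionField Fq K]

omit [Finite Fq] in
theorem trdeg_le [Algebra Fq K] [IsScalarTower Fq (RatFunc Fq) K] : Algebra.trdeg Fq K ≤ 1 := by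
  have : Algebra.IsAlgebraic (RatFunc Fq) K := Algebra.IsAlgebraic.of_finite _ _
  have h1 : Algebra.trdeg Fq (RatFunc Fq) = 1 := by
    rw [← _root_.trdeg_add_eq Fq (Polynomial Fq), Polynomial.trdeg_of_isDomain,
      (_root_.trdeg_eq_zero_iff (R := Polynomial Fq) (A := RatFunc Fq)).2
        (IsLocalization.isAlgebraic (RatFunc Fq) (nonZeroDivisors (Polynomial Fq))), add_zero]
  rw [← _root_.trdeg_add_eq Fq (RatFunc Fq), h1, _root_.trdeg_eq_zero, add_zero]

include Fq

/-- `cd_ℓ ≤ 2`. -/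
theorem cohDimLEAt_two (ℓ : ℕ) (hℓ : ℓ.Prime) : _root_.Dix.CohDimLEAt (Spec (CommRingCat.of K)) ℓ 2 := by
  let _ : Algebra Fq K := ((algebraMap (RatFunc Fq) K).comp (algebraMap Fq (RatFunc Fq))).toAlgebra
  have : IsScalarTower Fq (RatFunc Fq) K := IsScalarTower.of_algebraMap_eq fun _ => rfl
  have h1 : _root_.Dix.CohDimLEAt (Spec (CommRingCat.of Fq)) ℓ 1 :=
    Etbc.H212.CdAt.cohDimLEAt_of_cohDimLE hℓ.pos (Etbc.H212.FinField.cohDimLE_finField Fq)
  exact Etbc.H208.CdTrdeg.cohDimLEAt_of_trdeg_le hℓ.pos 1 Fq K 1 h1 (by simpa using trdeg_le Fq K)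

/-- `cd ≤ 2`. -/
theorem cohDimLE_two : EtCoh.CohDimLE (Spec (CommRingCat.of K)) 2 :=
  K775.Tors.cohDimLE_of_primes (cohDimLEAt_two Fq K)

/-- The hypotheses of `Scd.subsingleton_H3`. -/
theorem hyp (p : ℕ) (hp : p.Prime) : _root_.Dix.CohDimLEAt (Spec (CommRingCat.of K)) p 1 ∨
    ((p : K) ≠ 0 ∧ _root_.Dix.CohDimLEAt (Spec (CommRingCat.of K)) p 2 ∧ CycCd K p) := by
  have : Fact p.Prime := ⟨hp⟩
  by_cases h : (p : K) = 0
  · left
    have : CharP K p := (CharP.charP_iff_prime_eq_zero hp).2 h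
    exact cohDimLEAt_char K p
  · exact Or.inr ⟨h, cohDimLEAt_two Fq K p hp, FunCd.cycCd Fq K p⟩

/-- Finite extensions of a global function field. -/
theorem subsingleton_H3 (N : Type u) [Field N] [Algebra K N] [FiniteDimensional K N] :
    Subsingleton (EtCoh.H (Spec (CommRingCat.of N)) (EtCoh.const _ ℤ) 3) := by
  let _ : Algebra (RatFunc Fq) N := ((algebraMap K N).comp (algebraMap (RatFunc Fq) K)).toAlgebra
  have : IsScalarTower (RatFunc Fq) K N := IsScalarTower.of_algebraMap_eq fun _ => rfl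
  have hfd : FiniteDimensional (RatFunc Fq) K := inferInstanceAs (FiniteDimensional (RatFunc Fq) K)
  have : FunctionField Fq N := FiniteDimensional.trans (RatFunc Fq) K N
  exact subsingleton_H3_int N (hyp Fq N)

end fn

end K91.FunScd
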