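import Groth.Agent.Etbc.H208.CdTrdeg
import Groth.Agent.Etbc.H231.CycTower
import Groth.Agent.Lefpen.H713.TCd
import Mathlib.FieldTheory.KummerExtension
import Mathlib.NumberTheory.FunctionField
import Mathlib.FieldTheory.Finite.GaloisField

/-!
# `cd_ℓ ≤ 1` for algebraic extensions of global function fields containing the `ℓ`-power roots of unity
-/

set_option autoImplicit false
universe u
open AlgebraicGeometry CategoryTheory Polynomial Opposite

namespace K91.FunCd

open Groth.Agent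

section Alg

variable (F N : Type u) [Field F] [Finite F] [Field N] [Algebra F N] [Algebra.IsAlgebraic F N] (ℓ : ℕ)
  [Fact ℓ.Prime]

include F in
/-- Nonzero elements of an algebraic extension of a finite field are roots of unity. -/
theorem exists_pow_eq_one (b : N) (hb : b ≠ 0) : ∃ n : ℕ, 0 < n ∧ b ^ n = 1 := by
  let E := IntermediateField.adjoin F {b}
  have hfd : FiniteDimensional F E :=
    IntermediateField.adjoin.finiteDimensional (Algebra.IsIntegral.isIntegral b)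
  have hfin : Finite E := Module.finite_of_finite F
  let x : Eˣ := Units.mk0 ⟨b, IntermediateField.mem_adjoin_simple_self F b⟩ (fun h => hb (congrArg Subtype.val h))
  have hx : IsOfFinOrder x := isOfFinOrder_of_finite x
  obtain ⟨n, hn, h⟩ := isOfFinOrder_iff_pow_eq_one.1 hx
  refine ⟨n, hn, ?_⟩
  have h1 := congrArg (fun y : Eˣ => ((y : E) : N)) h
  exact h1

variable {ℓ}

include F in
/-- All elements are `ℓ`-th powers. -/
theorem exists_root (h : ∀ n : ℕ, ∃ ζ : N, IsPrimitiveRoot ζ (ℓ ^ n)) (b : N) (hb : b ≠ 0) :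
    ∃ c : N, c ^ ℓ = b := by
  have hℓ : ℓ.Prime := Fact.out
  obtain ⟨n, hn, hbn⟩ := exists_pow_eq_one F N b hb
  obtain ⟨e, n', hn', rfl⟩ := Nat.exists_eq_pow_mul_and_not_dvd hn.ne' ℓ hℓ.ne_one
  obtain ⟨ζ, hζ⟩ := h (e + 1)
  have hζℓ : IsPrimitiveRoot (ζ ^ ℓ) (ℓ ^ e) := hζ.pow (pow_pos hℓ.pos _) (pow_succ' ℓ e)
  have hne : NeZero (ℓ ^ e) := ⟨(pow_pos hℓ.pos e).ne'⟩
  obtain ⟨k, -, hk⟩ := hζℓ.eq_pow_of_pow_eq_one (ξ := b ^ n') (by rw [← pow_mul, mul_comm, hbn])
  have hcop : IsCoprime (n' : ℤ) (ℓ : ℤ) := by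
    rw [Nat.isCoprime_iff_coprime]
    exact ((Nat.Prime.coprime_iff_not_dvd hℓ).2 hn').symm
  obtain ⟨x, y, hxy⟩ := hcop
  refine ⟨(ζ ^ k) ^ x * b ^ y, ?_⟩
  have hζ0 : ζ ≠ 0 := hζ.ne_zero (pow_pos hℓ.pos _).ne'
  have h1 : ((ζ ^ k) ^ x * b ^ y) ^ ℓ = (b ^ n') ^ x * b ^ (y * ℓ) := by
    rw [← hk, mul_pow, ← zpow_natCast ((ζ ^ k) ^ x) ℓ, ← zpow_mul, mul_comm x, zpow_mul, zpow_natCast,
      ← zpow_natCast (b ^ y) ℓ, ← zpow_mul]
    congr 2
    rw [← pow_mul, ← pow_mul, mul_comm]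
  rw [h1, ← zpow_natCast b n', ← zpow_mul, ← zpow_add₀ hb, mul_comm (n' : ℤ) x, hxy, zpow_one]

include F in
/-- Finite Galois extensions have degree prime to `ℓ`. -/
theorem coprime_finrank (h : ∀ n : ℕ, ∃ ζ : N, IsPrimitiveRoot ζ (ℓ ^ n)) (M : Type u) [Field M] [Algebra N M]
    [FiniteDimensional N M] [IsGalois N M] : (Module.finrank N M).Coprime ℓ := by
  classical
  have hℓ : ℓ.Prime := Fact.out
  rw [Nat.coprime_comm, Nat.Prime.coprime_iff_not_dvd hℓ]
  intro hdvd
  rw [← IsGalois.card_aut_eq_finrank] at hdvd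
  have : Fintype (M ≃ₐ[N] M) := Fintype.ofFinite _
  rw [Nat.card_eq_fintype_card] at hdvd
  obtain ⟨g, hg⟩ := exists_prime_orderOf_dvd_card ℓ hdvd
  let H : Subgroup (M ≃ₐ[N] M) := Subgroup.zpowers g
  let E := IntermediateField.fixedField H
  have hrk : Module.finrank E M = ℓ := by
    rw [IntermediateField.finrank_fixedField_eq_card, Nat.card_zpowers, hg]
  have hgal : IsGalois E M := inferInstance
  have hcyc : IsCyclic (M ≃ₐ[E] M) := by
    have : Nat.card (M ≃ₐ[E] M) = ℓ := by rw [IsGalois.card_aut_eq_finrank, hrk]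
    exact isCyclic_of_prime_card this
  let _ : Algebra F M := ((algebraMap N M).comp (algebraMap F N)).toAlgebra
  have : IsScalarTower F N M := IsScalarTower.of_algebraMap_eq fun _ => rfl
  have : Algebra.IsAlgebraic F M := Algebra.IsAlgebraic.trans F N M
  let _ : Algebra F E := ((algebraMap N E).comp (algebraMap F N)).toAlgebra
  have : IsScalarTower F E M := IsScalarTower.of_algebraMap_eq fun _ => rfl
  have : Algebra.IsAlgebraic F E := Algebra.IsAlgebraic.tower_bot F E M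
  have hE : ∀ n : ℕ, ∃ ζ : E, IsPrimitiveRoot ζ (ℓ ^ n) := fun n => by
    obtain ⟨ζ, hζ⟩ := h n
    exact ⟨algebraMap N E ζ, hζ.map_of_injective (algebraMap N E).injective⟩
  have hprim : (primitiveRoots (Module.finrank E M) E).Nonempty := by
    obtain ⟨ζ, hζ⟩ := hE 1
    rw [pow_one] at hζ
    rw [hrk]
    exact ⟨ζ, (mem_primitiveRoots hℓ.pos).2 hζ⟩
  obtain ⟨α, ⟨b, hb⟩, htop⟩ := exists_root_adjoin_eq_top_of_isCyclic E M hprim
  rw [hrk] at hb
  have key : α ∈ Set.range (algebraMap E M) := by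
    by_cases hb0 : b = 0
    · rw [hb0, map_zero] at hb
      have : α = 0 := pow_eq_zero_iff hℓ.ne_zero |>.1 hb.symm
      exact ⟨0, by rw [this, map_zero]⟩
    · obtain ⟨c, hc⟩ := exists_root F E hE b hb0
      have hc0 : c ≠ 0 := by
        rintro rfl
        rw [zero_pow hℓ.ne_zero] at hc
        exact hb0 hc.symm
      have hα : (α / algebraMap E M c) ^ ℓ = 1 := by
        rw [div_pow, ← hb, ← hc, map_pow, div_self]
        exact pow_ne_zero _ ((_root_.map_ne_zero _).2 hc0)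
      obtain ⟨ζ, hζ⟩ := hE 1
      rw [pow_one] at hζ
      have : NeZero ℓ := ⟨hℓ.ne_zero⟩
      obtain ⟨k, -, hk⟩ := (hζ.map_of_injective (algebraMap E M).injective).eq_pow_of_pow_eq_one hα
      refine ⟨ζ ^ k * c, ?_⟩
      rw [map_mul, map_pow, hk, div_mul_cancel₀]
      exact (_root_.map_ne_zero _).2 hc0
  have hbot : (⊤ : IntermediateField E M) = ⊥ := by
    rw [← htop, IntermediateField.adjoin_simple_eq_bot_iff, IntermediateField.mem_bot]
    exact key
  have h1 : Module.finrank E M = 1 := by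
    rw [← IntermediateField.finrank_top', hbot, IntermediateField.finrank_bot]
  rw [hrk] at h1
  exact hℓ.ne_one h1

include F in
/-- `cd_ℓ = 0`. -/
theorem cohDimLEAt_zero (h : ∀ n : ℕ, ∃ ζ : N, IsPrimitiveRoot ζ (ℓ ^ n)) :
    _root_.Dix.CohDimLEAt (Spec (CommRingCat.of N)) ℓ 0 := by
  intro G hG q hq
  refine Etbc.H231.CycTower.subsingleton_H_of_primary ℓ q (fun k G hG => ?_) G hG
  exact Lefpen.H713.TCd.subsingleton_H (ℓ ^ k) (fun M _ _ _ _ =>
    Nat.Coprime.pow_right k (coprime_finrank F N h M)) G hG q hq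

end Alg

/-- Algebraic extensions of function fields over finite fields containing all `ℓ`-power roots of unity have
`cd_ℓ ≤ 1`. -/
theorem cohDimLEAt_one (Fq : Type u) [Field Fq] [Finite Fq] (K : Type u) [Field K] [Algebra (RatFunc Fq) K]
    [FunctionField Fq K] (ℓ : ℕ) [Fact ℓ.Prime] (L : Type u) [Field L] [Algebra K L] [Algebra.IsAlgebraic K L]
    (h : ∀ n : ℕ, ∃ ζ : L, IsPrimitiveRoot ζ (ℓ ^ n)) :
    _root_.Dix.CohDimLEAt (Spec (CommRingCat.of L)) ℓ 1 := by
  have hℓ : ℓ.Prime := Fact.out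
  let _ : Algebra (RatFunc Fq) L := ((algebraMap K L).comp (algebraMap (RatFunc Fq) K)).toAlgebra
  have : IsScalarTower (RatFunc Fq) K L := IsScalarTower.of_algebraMap_eq fun _ => rfl
  have : Algebra.IsAlgebraic (RatFunc Fq) K := Algebra.IsAlgebraic.of_finite _ _
  have : Algebra.IsAlgebraic (RatFunc Fq) L := Algebra.IsAlgebraic.trans (RatFunc Fq) K L
  let _ : Algebra Fq L := ((algebraMap (RatFunc Fq) L).comp (algebraMap Fq (RatFunc Fq))).toAlgebra
  have : IsScalarTower Fq (RatFunc Fq) L := IsScalarTower.of_algebraMap_eq fun _ => rfl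
  let k' : IntermediateField Fq L := algebraicClosure Fq L
  have halg : Algebra.IsAlgebraic Fq k' := inferInstance
  have hk' : ∀ n : ℕ, ∃ ζ : k', IsPrimitiveRoot ζ (ℓ ^ n) := by
    intro n
    obtain ⟨ζ, hζ⟩ := h n
    have hint : IsIntegral Fq ζ := by
      refine IsIntegral.of_pow (pow_pos hℓ.pos n) ?_
      rw [hζ.pow_eq_one]
      exact isIntegral_one
    refine ⟨⟨ζ, mem_algebraicClosure_iff'.2 hint⟩, ?_⟩
    exact IsPrimitiveRoot.of_map_of_injective (f := algebraMap k' L) hζ (algebraMap k' L).injective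
  have h0 := cohDimLEAt_zero Fq k' hk'
  have htr : Algebra.trdeg Fq L ≤ 1 := by
    have h1 : Algebra.trdeg Fq (RatFunc Fq) = 1 := by
      rw [← _root_.trdeg_add_eq Fq Fq[X], Polynomial.trdeg_of_isDomain,
        (_root_.trdeg_eq_zero_iff (R := Fq[X]) (A := RatFunc Fq)).2 (IsLocalization.isAlgebraic (RatFunc Fq) (nonZeroDivisors Fq[X])), add_zero]
    rw [← _root_.trdeg_add_eq Fq (RatFunc Fq), h1, _root_.trdeg_eq_zero, add_zero]
  have htr' : Algebra.trdeg k' L ≤ 1 := by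
    have h2 := _root_.trdeg_add_eq Fq k' (A := L)
    rw [_root_.trdeg_eq_zero, zero_add] at h2
    rw [h2]
    exact htr
  exact Etbc.H208.CdTrdeg.cohDimLEAt_of_trdeg_le hℓ.pos 1 k' L 0 h0 (by simpa using htr')

end K91.FunCd
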