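import Groth.Agent.TateLoc.K91.FunCd
import Groth.Agent.Dix.K109.Scd

/-!
# Global function fields satisfy the cyclotomic condition

For a global function field `K` and a prime `ℓ`, every algebraic extension of `K` containing all
the `ℓ`-power roots of unity has cohomological `ℓ`-dimension at most one.
-/

set_option autoImplicit false
universe u

open CategoryTheory AlgebraicGeometry

namespace K91.FunCd

/-- The cyclotomic condition for global function fields. -/
theorem cycCd (Fq : Type u) [Field Fq] [Finite Fq] (K : Type u) [Field K] [Algebra (RatFunc Fq) K]
    [FunctionField Fq K] (ℓ : ℕ) [Fact ℓ.Prime] : Groth.Agent.Dix.K109.Scd.CycCd K ℓ :=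
  fun L _ _ _ hL => cohDimLEAt_one Fq K ℓ L hL

end K91.FunCd
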